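import Mathlib
import Cfsg.Agent.Lib.Compute.OutFinal5
import Cfsg.Agent.Lib.Sporadic.Co2Out.Data

/-! The kernel checks for the outer automorphism group of a group of Conway. -/

set_option autoImplicit false
set_option maxRecDepth 100000

namespace Cfsg.Agent.Lib.Sporadic.Co2Out.Check

open Cfsg.Agent.Lib.Compute.PermCert Cfsg.Agent.Lib.Compute.OutChain Cfsg.Agent.Lib.Compute.OutFinal
open Cfsg.Agent.Lib.Compute.OutFinal2 Cfsg.Agent.Lib.Compute.OutFinal4 Cfsg.Agent.Lib.Compute.OutFinal5
open Cfsg.Agent.Lib.Sporadic.Co2Out.Data

local notation "W" => (13 : Nat)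
local notation "M" => (8191 : Nat)
local notation "NN" => (4600 : Nat)
local notation "TW" => (25 : Nat)
local notation "TM" => (33554431 : Nat)
local notation "DD" => (13 : Nat)

theorem chainA_ok : chkChainF W M NN TW TM DD (lrlvA.map Prod.fst) = true := by decide +kernel
theorem chainB_ok : chkChainF W M NN TW TM DD (lrlvB.map Prod.fst) = true := by decide +kernel
theorem ordA : ordC (lrlvA.map Prod.fst) = 42305421312000 := by decide +kernel
theorem ordB : ordC (lrlvB.map Prod.fst) = 42305421312000 := by decide +kernel
theorem ruA : rulesOK NN (gt W M piE) [] lrlvA = true := by decide +kernel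
theorem ruB : rulesOK NN (gt W M rhoE) [] lrlvB = true := by decide +kernel
theorem sA : searchF W M NN TW TM DD (iterF (gt W M piE) 2)
    (conjLeaf W M piE rhoE 11 (baseL (lrlvA.map Prod.fst))) lrlvA id id = true := by decide +kernel
theorem sB : searchF W M NN TW TM DD (gt W M rhoE)
    (fun vf vi => notSol NN DD (gt W M rhoE) (gt W M rhoE) vf vi || finLeaf1r W M piE rhoE yE kills (baseL (lrlvB.map Prod.fst)) vf vi) lrlvB id id = true := by decide +kernel
theorem kF : killsOK NN DD (gt W M piE) (gt W M rhoE) (gt W M yE) kills = true := by decide +kernel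
theorem vP : validB W M NN piE = true := by decide +kernel
theorem vR : validB W M NN rhoE = true := by decide +kernel
theorem vY : validB W M NN yE = true := by decide +kernel
theorem siftP : siftF W M NN TW TM DD (lrlvA.map Prod.fst) (gt W M piE) = true := by decide +kernel
theorem siftR : siftF W M NN TW TM DD (lrlvA.map Prod.fst) (gt W M rhoE) = true := by decide +kernel
theorem siftY : siftF W M NN TW TM DD (lrlvA.map Prod.fst) (gt W M yE) = true := by decide +kernel
theorem powP : allN (fun i => Nat.beq (iterF (gt W M piE) 11 i) i) NN DD = true := by decide +kernel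
theorem relR : allN (fun i => Nat.beq (gt W M rhoE (gt W M piE i))
    (iterF (gt W M piE) 2 (gt W M rhoE i))) NN DD = true := by decide +kernel
theorem commYR : allN (fun i => Nat.beq (gt W M yE (gt W M rhoE i)) (gt W M rhoE (gt W M yE i))) NN DD = true := by
  decide +kernel

end Cfsg.Agent.Lib.Sporadic.Co2Out.Check
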