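import Mathlib
import Cfsg.Agent.Lib.Sporadic.Co2Out.Vecs
import Cfsg.Agent.Lib.Sporadic.Co2Out.Data

/-! The kernel checks of the action of the generators. -/

set_option autoImplicit false
set_option maxRecDepth 100000

namespace Cfsg.Agent.Lib.Sporadic.Co2Out.Gens

open Cfsg Cfsg.Agent.Lib.Compute.PermCert Cfsg.Agent.Lib.Compute.OutChain Cfsg.Agent.Lib.Sporadic.LeechKey Cfsg.Agent.Lib.Sporadic.LeechMcLData
  Cfsg.Agent.Lib.Sporadic.LeechA0 Cfsg.Agent.Lib.Sporadic.LeechMin Cfsg.Agent.Lib.Sporadic.LeechFast
  Cfsg.Agent.Lib.Sporadic.Co2Out.Vecs Cfsg.Agent.Lib.Sporadic.Co2Out.Data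


theorem gen0_len : tI0.length = 24 := by decide +kernel
theorem gen0_lt : tI0.all (fun t => Nat.blt t 24) = true := by decide +kernel
theorem gen0_ok : allN (fun i => permChk (TT i) (TT (get 13 8191 eG0.f i)) tI0 0) 4600 13 = true := by
  decide +kernel
theorem gen1_len : tI1.length = 24 := by decide +kernel
theorem gen1_lt : tI1.all (fun t => Nat.blt t 24) = true := by decide +kernel
theorem gen1_ok : allN (fun i => permChk (TT i) (TT (get 13 8191 eG1.f i)) tI1 0) 4600 13 = true := by
  decide +kernel
theorem gen2_len : tI2.length = 24 := by decide +kernel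
theorem gen2_lt : tI2.all (fun t => Nat.blt t 24) = true := by decide +kernel
theorem gen2_ok : allN (fun i => permChk (TT i) (TT (get 13 8191 eG2.f i)) tI2 0) 4600 13 = true := by
  decide +kernel
theorem gen3_len : tI3.length = 24 := by decide +kernel
theorem gen3_lt : tI3.all (fun t => Nat.blt t 24) = true := by decide +kernel
theorem gen3_ok : allN (fun i => permChk (TT i) (TT (get 13 8191 eG3.f i)) tI3 0) 4600 13 = true := by
  decide +kernel
theorem gen4_val : rowsValid MX 2 rowsX = true := by decide +kernel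
theorem gen4_ok : allN (fun i => rowsChk 2 (TT i) (TT (get 13 8191 eG4.f i)) rowsX 0) 4600 13 = true := by
  decide +kernel
theorem sorted_ok : allN (sortedChk TT 4600) 4600 13 = true := by decide +kernel
theorem tree_ok : allN (treeChk 13 8191 4600 [eG0, eG1, eG2, eG3, eG4] TC) 4600 13 = true := by decide +kernel

end Cfsg.Agent.Lib.Sporadic.Co2Out.Gens
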