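import Mathlib
import Cfsg.Agent.Lib.Sporadic.Co2Out.Gens
import Cfsg.Agent.Lib.Sporadic.Co2Out.Check

/-! The outer automorphism group of the group Co2. -/

set_option autoImplicit false
set_option maxRecDepth 100000

namespace Cfsg.Agent.Lib.Sporadic.Co2Out.Main

open Cfsg Cfsg.Agent.Lib.Compute.PermCert Cfsg.Agent.Lib.Compute.OutChain Cfsg.Agent.Lib.Compute.OutFinal
  Cfsg.Agent.Lib.Compute.OutFinal4 Cfsg.Agent.Lib.Compute.OutFinal5 Cfsg.Agent.Lib.Compute.OutFinal2 Cfsg.Agent.Lib.Compute.PermOut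
  Cfsg.Agent.Lib.Sporadic.GolayCore Cfsg.Agent.Lib.Sporadic.LeechBasic Cfsg.Agent.Lib.Sporadic.LeechAut
  Cfsg.Agent.Lib.Sporadic.LeechMat Cfsg.Agent.Lib.Sporadic.LeechKey Cfsg.Agent.Lib.Sporadic.LeechEnum
  Cfsg.Agent.Lib.Sporadic.LeechA0 Cfsg.Agent.Lib.Sporadic.LeechMcLData Cfsg.Agent.Lib.Sporadic.LeechMcL
  Cfsg.Agent.Lib.Sporadic.LeechMin
  Cfsg.Agent.Lib.Sporadic.LeechRep Cfsg.Agent.Lib.Sporadic.LeechGroups Cfsg.Agent.Lib.Sporadic.LeechRep2
  Cfsg.Agent.Lib.Sporadic.LeechFast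
  Cfsg.Agent.Lib.Sporadic.Co2Out.Vecs Cfsg.Agent.Lib.Sporadic.Co2Out.Data Cfsg.Agent.Lib.Sporadic.Co2Out.Check
  Cfsg.Agent.Lib.Sporadic.Co2Out.Gens


/-- The group. -/
noncomputable abbrev SS : Subgroup Co0 := KA

theorem hd : 4600 ≤ 2 ^ 13 := by norm_num

theorem chkA : chkChain 13 8191 4600 25 33554431 (lrlvA.map Prod.fst) = true :=
  (chkChainF_eq hd (tw := 25) (tm := 33554431) (w := 13) (m := 8191) (ls := lrlvA.map Prod.fst)).symm.trans chainA_ok

theorem card_SS : Nat.card SS = 42305421312000 := card_stab_32 a0 sqNorm_a0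

theorem hmem : ∀ i, i < 4600 → vecOf (decV (TT i)) ∈ leechLattice := by
  refine mem_of_tree2 hd (Gs := [eG0, eG1, eG2, eG3, eG4]) (fun e he => ?_) (inLattice_sound (by decide +kernel)) tree_ok
  simp only [List.mem_cons, List.not_mem_nil, or_false] at he
  rcases he with rfl | rfl | rfl | rfl | rfl
  · exact ⟨_, _, genOK_perm hd act0 gen0_len gen0_lt gen0_ok⟩
  · exact ⟨_, _, genOK_perm hd act1 gen1_len gen1_lt gen1_ok⟩
  · exact ⟨_, _, genOK_perm hd act2 gen2_len gen2_lt gen2_ok⟩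
  · exact ⟨_, _, genOK_perm hd act3 gen3_len gen3_lt gen3_ok⟩
  · exact ⟨_, _, genOK_mat hd actMX (by norm_num) (by norm_num) gen4_val gen4_ok⟩

theorem hExists : ∃ K : Subgroup (Equiv.Perm (Fin 4600)), ChainFor 13 8191 4600 25 33554431 K (lrlvA.map Prod.fst) ∧ Nonempty (SS ≃* K) := by
  refine rep_table chkA (fun i _ => get96_lt _ _) (sorted_of_chk hd sorted_ok) hmem (fun e he => ?_) (by rw [card_SS, ordA])
  have he' : e ∈ [eG0, eG1, eG2, eG3, eG4] := he
  simp only [List.mem_cons, List.not_mem_nil, or_false] at he'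
  rcases he' with rfl | rfl | rfl | rfl | rfl
  · exact ⟨_, act0_mem, _, genOK_perm hd act0 gen0_len gen0_lt gen0_ok⟩
  · exact ⟨_, act1_mem, _, genOK_perm hd act1 gen1_len gen1_lt gen1_ok⟩
  · exact ⟨_, act2_mem, _, genOK_perm hd act2 gen2_len gen2_lt gen2_ok⟩
  · exact ⟨_, act3_mem, _, genOK_perm hd act3 gen3_len gen3_lt gen3_ok⟩
  · exact ⟨_, mX_mem, _, genOK_mat hd actMX (by norm_num) (by norm_num) gen4_val gen4_ok⟩

/-- The group as a permutation group. -/
noncomputable def K : Subgroup (Equiv.Perm (Fin 4600)) := Classical.choose hExists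

theorem hA : ChainFor 13 8191 4600 25 33554431 K (lrlvA.map Prod.fst) := (Classical.choose_spec hExists).1

theorem iso : Nonempty (SS ≃* K) := (Classical.choose_spec hExists).2

theorem card_K : Nat.card K = 42305421312000 := by
  rw [← hA.ord]
  exact ordA

theorem out_eq : Nat.card (Out Cfsg.Spor.Co2) = Nat.card (Out K) := by
  obtain ⟨g0, hg⟩ := Cfsg.Agent.Lib.Sporadic.LeechMin.co0_transitive_min Spor.leechU a0 sqNorm_U sqNorm_a0
  obtain ⟨e⟩ := exists_conj_stab hg
  obtain ⟨e2⟩ := iso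
  exact (card_out_congr e).trans (card_out_congr e2)

theorem mP : permOf 13 8191 4600 piE ∈ K := hA.mem_of_sift hd (gt_eq vP) siftP
theorem mR : permOf 13 8191 4600 rhoE ∈ K := hA.mem_of_sift hd (gt_eq vR) siftR
theorem mY : permOf 13 8191 4600 yE ∈ K := hA.mem_of_sift hd (gt_eq vY) siftY

theorem hB : ChainFor 13 8191 4600 25 33554431 K (lrlvB.map Prod.fst) := by
  refine ChainFor.of_fast hd chainB_ok ?_ (by rw [ordB, card_K])
  refine (Subgroup.closure_le _).mpr ?_
  rintro _ ⟨e, he, rfl⟩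
  have he' : e ∈ [piE, rhoE, yE] := he
  simp only [List.mem_cons, List.not_mem_nil, or_false] at he'
  rcases he' with rfl | rfl | rfl
  · exact mP
  · exact mR
  · exact mY

instance factP : Fact (Nat.Prime 11) := ⟨by norm_num⟩

theorem hpow : permOf 13 8191 4600 piE ^ 11 = 1 := pow_of_check vP hd powP

/-- The outer automorphism group of the group. -/
theorem card_out : Nat.card (Out Cfsg.Spor.Co2) = 1 := by
  rw [out_eq]
  refine card_out_one_rat (p := 11) (r := 2) (zk := 1) (pe := piE) (re := rhoE) (ye := yE) (ze := rhoE)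
    (kills := kills) hB hd rfl vP vR vY ?_ hpow ?_ ?_ ?_ ?_ ?_ ?_ ?_ kF
  · rw [card_K]; norm_num
  · exact ne_one_of_point vP (i := 0) (by norm_num) (by decide +kernel)
  · exact rel_of_check vP vR hd relR
  · exact hexp_of_check (by norm_num) (by decide)
  · exact (pow_one _).symm
  · exact comm_of_check vY vR hd commYR
  · exact hconj_of_search hA hd vP vR mP mR hpow ruA sA
  · intro c hc hcz
    exact search_useN hB hd (gt_eq vR) (gt_eq vR) ruB sB c hc hcz

end Cfsg.Agent.Lib.Sporadic.Co2Out.Main
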